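import Cfsg.Agent.Base
namespace H0
/-- probe for the landing script -/
theorem auxProbe (l : List Nat) : List.length (0 :: l) = l.length + 1 := by
  rw [List.length]
end H0
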