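import Cfsg.Agent.H87.McW
import Cfsg.Agent.H21.McC
import Cfsg.Agent.H28.McM2
import Cfsg.Agent.H26.McM3
import Cfsg.Agent.H42.McY2
import Cfsg.Agent.H25.McXC
import Cfsg.Agent.H81.McXB1
import Cfsg.Agent.H81.McXB2
import Cfsg.Agent.H81.McXB3
import Cfsg.Agent.S3329
import Cfsg.Agent.S3330

/-! The 3-local recognition of McL, assembled. -/

set_option autoImplicit false

namespace H0.McL

universe u

theorem r3329 : H47.MC.R3329.{u} :=
  fun _ _ _ P D a y z b c d e f g h i Ny j k _ l m n o =>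
    Cfsg.Agent.S3329.result P D a y z b c d e f g h i Ny j k l m n o

theorem r3330 : H47.MC.R3330.{u} :=
  fun _ _ _ P D a y z b c d e f g _ h i j k Ny l m n o p q =>
    Cfsg.Agent.S3330.result P D a y z b c d e f g h i j k Ny l m n o p q

theorem r5523 : H47.MC.R5523.{u} :=
  H47.MC.r5523 H21.MC.jobM1 H28.M2.jobM2 H26.MC.jobM3 H42.MC.jobY H25.McX.jobXA1 H25.McX.jobXA2
    H81.MC.jobXB1 H81.MC.jobXB2 H81.MC.jobXB3 r3329 r3330 H87.McW.r3334

end H0.McL
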