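import Cfsg.Agent.Base
import Cfsg.Agent.Rz.List_lookup_induct
namespace H0
theorem probe_lookup : True := by
  have := @List.lookup.induct.{0,0}
  have := @Cfsg.pCore.eq_1.{0}
  trivial
def probeF : ℕ → ℕ
  | 0 => 1
  | n+1 => probeF n + 2
theorem probeF_one : probeF 1 = 3 := by simp [probeF]
instance probeInst : Inhabited (Fin 7) := ⟨3⟩
structure ProbeS where
  a : ℕ
  deriving DecidableEq
end H0
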